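import Groth.Prelude.Def_BigSite
import Groth.Prelude.Def_SGA4b
import Groth.Prelude.Def_EtBCD
import Groth.Agent.Lib.BigEt.BaseChange
import Groth.Agent.Lib.BigEt.Unit
import Groth.Agent.Lib.PBC50.SetsBC
import Mathlib.CategoryTheory.Adjunction.Unique

/-!
# Direct images of sheaves of sets along proper morphisms and inverse images to the big étale site

The comparison map, restricted to the small étale site of an object of the big site, is the base
change map.
-/

set_option autoImplicit false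

universe u

open CategoryTheory CategoryTheory.Limits AlgebraicGeometry Opposite

noncomputable section

namespace Groth.Agent.Lib.BigEt50.SetsPush

set_option backward.isDefEq.respectTransparency false
set_option backward.isDefEq.respectTransparency.types false

local notation "Ket" => (Scheme.etalePrecoverage : Precoverage Scheme)

variable {S T U X' : Scheme.{u}}

/-- Inverse image of sheaves of sets to the big étale site. -/
abbrev pull (X : Scheme.{u}) : EtDesc.Sh X ⥤ QuotSh.Sh Ket X :=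
  (EtFppf.a X).sheafPullback (Type (u + 1)) X.smallEtaleTopology (QuotSh.J Ket X)

/-- Restriction to the small étale site. -/
abbrev res (X : Scheme.{u}) : QuotSh.Sh Ket X ⥤ EtDesc.Sh X :=
  (EtFppf.a X).sheafPushforwardContinuous (Type (u + 1)) X.smallEtaleTopology (QuotSh.J Ket X)

/-- The adjunction. -/
abbrev adj (X : Scheme.{u}) : pull X ⊣ res X :=
  (EtFppf.a X).sheafAdjunctionContinuous (Type (u + 1)) X.smallEtaleTopology (QuotSh.J Ket X)

theorem isIso_unit (X : Scheme.{u}) (G : EtDesc.Sh X) : IsIso ((adj X).unit.app G) := by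
  have : (EtFppf.a X).IsCocontinuous X.smallEtaleTopology (QuotSh.J Ket X) :=
    BigSite.aEtCocont_etale X
  have : (EtFppf.a X).Full := inferInstanceAs (Scheme.Etale.forget X).Full
  have : (EtFppf.a X).Faithful := inferInstanceAs (Scheme.Etale.forget X).Faithful
  exact BigEt.Unit.isIso_unit (EtFppf.a X) (Type (u + 1)) _ _ G

/-- Direct image on the big site. -/
abbrev pushB (f : T ⟶ S) : QuotSh.Sh Ket T ⥤ QuotSh.Sh Ket S :=
  BigSite.pushBig Ket f (Type (u + 1))

/-- Inverse image on the big site. -/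
abbrev pullB (f : T ⟶ S) : QuotSh.Sh Ket S ⥤ QuotSh.Sh Ket T :=
  BigSite.pullBig Ket f (Type (u + 1))

/-- Restriction commutes with direct images. -/
def rp (f : T ⟶ S) : res T ⋙ EtDesc.pushSh f ≅ pushB f ⋙ res S :=
  let e : EtCoh.bc f ⋙ EtFppf.a T ≅ EtFppf.a S ⋙ Over.pullback f :=
    MorphismProperty.Over.pullbackCompForgetIso (P := EtCoh.etaleMP) (Q := ⊤) f
  BigEt.BaseChange.liftIso (Functor.isoWhiskerLeft (sheafToPresheaf (QuotSh.J Ket T) (Type (u + 1)))
    ((Functor.whiskeringLeft _ _ (Type (u + 1))).mapIso (NatIso.op e.symm)))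

/-- The mixed base change isomorphism. -/
def rbc {h : U ⟶ S} {f : T ⟶ S} {h' : X' ⟶ T} {f' : X' ⟶ U} (hsq : IsPullback h' f' f h) :
    (pullB h' ⋙ res X') ⋙ EtDesc.pushSh f' ≅ pushB f ⋙ pullB h ⋙ res U :=
  let e : EtCoh.bc f' ⋙ EtFppf.a X' ⋙ Over.map h' ≅
      EtFppf.a U ⋙ Over.map h ⋙ Over.pullback f :=
    (Functor.associator _ _ _).symm ≪≫
      Functor.isoWhiskerRight
        (MorphismProperty.Over.pullbackCompForgetIso (P := EtCoh.etaleMP) (Q := ⊤) f') _ ≪≫
      Functor.associator _ _ _ ≪≫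
        Functor.isoWhiskerLeft (EtFppf.a U) (BigEt.BaseChange.overIso hsq)
  BigEt.BaseChange.liftIso (Functor.isoWhiskerLeft (sheafToPresheaf (QuotSh.J Ket T) (Type (u + 1)))
    ((Functor.whiskeringLeft _ _ (Type (u + 1))).mapIso (NatIso.op e.symm)))

/-- Restriction along `h`. -/
def r (h : U ⟶ S) (B : QuotSh.Sh Ket S) :
    (res S).obj B ⟶ (EtDesc.pushSh h).obj ((res U).obj ((pullB h).obj B)) :=
  (res S).map ((BigSite.bigAdj Ket h (Type (u + 1))).unit.app B) ≫
    (rp h).inv.app ((pullB h).obj B)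

theorem r_naturality (h : U ⟶ S) {A B : QuotSh.Sh Ket S} (φ : A ⟶ B) :
    (res S).map φ ≫ r h B =
      r h A ≫ (EtDesc.pushSh h).map ((res U).map ((pullB h).map φ)) := by
  have h₁ := congrArg (res S).map ((BigSite.bigAdj Ket h (Type (u + 1))).unit.naturality φ)
  simp only [Functor.id_map, Functor.map_comp, Functor.comp_map] at h₁
  have h₂ := (rp h).inv.naturality ((pullB h).map φ)
  simp only [Functor.comp_map] at h₂
  dsimp only [r]
  rw [← Category.assoc, h₁, Category.assoc, h₂, Category.assoc]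

/-- Inverse images to big sites commute with inverse images. -/
def piPull (h : U ⟶ S) : EtDesc.pullSh h ⋙ pull U ≅ pull S ⋙ pullB h :=
  Adjunction.leftAdjointUniq ((EtDesc.adjSh h).comp (adj U))
    (((adj S).comp (BigSite.bigAdj Ket h (Type (u + 1)))).ofNatIsoRight (rp h).symm)

/-- The restriction of the inverse image. -/
def θ (h : U ⟶ S) (G : EtDesc.Sh S) :
    (EtDesc.pullSh h).obj G ⟶ (res U).obj ((pullB h).obj ((pull S).obj G)) :=
  (adj U).unit.app ((EtDesc.pullSh h).obj G) ≫ (res U).map ((piPull h).hom.app G)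

theorem isIso_θ (h : U ⟶ S) (G : EtDesc.Sh S) : IsIso (θ h G) := by
  have := isIso_unit U ((EtDesc.pullSh h).obj G)
  dsimp only [θ]
  exact IsIso.comp_isIso' this inferInstance

theorem unit_θ (h : U ⟶ S) (G : EtDesc.Sh S) :
    (EtDesc.adjSh h).unit.app G ≫ (EtDesc.pushSh h).map (θ h G) =
      (adj S).unit.app G ≫ r h ((pull S).obj G) := by
  have H := Adjunction.unit_leftAdjointUniq_hom_app ((EtDesc.adjSh h).comp (adj U))
    (((adj S).comp (BigSite.bigAdj Ket h (Type (u + 1)))).ofNatIsoRight (rp h).symm) G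
  simp only [Adjunction.comp_unit_app, Adjunction.ofNatIsoRight, 
    Functor.comp_map, Category.assoc] at H
  dsimp only [θ, r]
  rw [Functor.map_comp]
  exact H

section Square

variable {h : U ⟶ S} {f : T ⟶ S} {h' : X' ⟶ T} {f' : X' ⟶ U} (hsq : IsPullback h' f' f h)

/-- The comparison of direct images for equal composites. -/
def κ (B : EtDesc.Sh X') :
    (EtDesc.pushSh f).obj ((EtDesc.pushSh h').obj B) ⟶
      (EtDesc.pushSh h).obj ((EtDesc.pushSh f').obj B) :=
  (EtDesc.pushCompSh f h').hom.app B ≫ (EtBC.pushCongrSh hsq.w).hom.app B ≫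
    (EtDesc.pushCompSh h f').inv.app B

theorem gen_fst {V : Scheme.{u}} (v : V ⟶ S) (w₁) (w₂) (w₃) (w₄) :
    𝟙 _ ≫ (BigEt.BaseChange.isPullback_fst_snd_comp hsq (Over.mk (pullback.snd v h))).isoPullback.hom ≫
        pullback.lift (pullback.fst (pullback.snd v h ≫ h) f ≫ 𝟙 _)
            (pullback.snd (pullback.snd v h ≫ h) f) w₁ ≫
          pullback.lift (pullback.fst (pullback.snd v h ≫ h) f ≫ pullback.fst v h)
              (pullback.snd (pullback.snd v h ≫ h) f) w₂ ≫
            𝟙 _ ≫ pullback.fst v f =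
    (pullbackLeftPullbackSndIso v h f').hom ≫
      pullback.map v (f' ≫ h) v (h' ≫ f) (𝟙 V) (𝟙 X') (𝟙 S) w₃ w₄ ≫
        𝟙 _ ≫ (pullbackLeftPullbackSndIso v f h').inv ≫
            𝟙 _ ≫ pullback.fst (pullback.snd v f) h' ≫ pullback.fst v f := by
  simp

theorem gen_snd {V : Scheme.{u}} (v : V ⟶ S) (w₁) (w₂) (w₃) (w₄) :
    𝟙 _ ≫ (BigEt.BaseChange.isPullback_fst_snd_comp hsq (Over.mk (pullback.snd v h))).isoPullback.hom ≫
        pullback.lift (pullback.fst (pullback.snd v h ≫ h) f ≫ 𝟙 _)
            (pullback.snd (pullback.snd v h ≫ h) f) w₁ ≫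
          pullback.lift (pullback.fst (pullback.snd v h ≫ h) f ≫ pullback.fst v h)
              (pullback.snd (pullback.snd v h ≫ h) f) w₂ ≫
            𝟙 _ ≫ pullback.snd v f =
    (pullbackLeftPullbackSndIso v h f').hom ≫
      pullback.map v (f' ≫ h) v (h' ≫ f) (𝟙 V) (𝟙 X') (𝟙 S) w₃ w₄ ≫
        𝟙 _ ≫ (pullbackLeftPullbackSndIso v f h').inv ≫
            𝟙 _ ≫ pullback.fst (pullback.snd v f) h' ≫ pullback.snd v f := by
  simp

theorem map_eq {C : Type*} [Category C] (P : Cᵒᵖ ⥤ Type (u + 1)) {A₀ A₁ A₂ A₃ A₄ B₁ B₂ B₃ B₄ : Cᵒᵖ}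
    (a : A₀ ⟶ A₁) (b : A₁ ⟶ A₂) (c : A₂ ⟶ A₃) (d : A₃ ⟶ A₄) (p : A₀ ⟶ B₁) (q : B₁ ⟶ B₂)
    (r : B₂ ⟶ B₃) (s : B₃ ⟶ B₄) (t : B₄ ⟶ A₄)
    (e : a ≫ b ≫ c ≫ d = p ≫ q ≫ r ≫ s ≫ t) (x : P.obj A₀) :
    P.map d (P.map c (P.map b (P.map a x))) = P.map t (P.map s (P.map r (P.map q (P.map p x)))) := by
  simp only [← ConcreteCategory.comp_apply, ← P.map_comp, Category.assoc]
  rw [e]

theorem key (B : QuotSh.Sh Ket T) :
    (rp f).hom.app B ≫ r h ((pushB f).obj B) ≫ (EtDesc.pushSh h).map ((rbc hsq).inv.app B) =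
      (EtDesc.pushSh f).map (r h' B) ≫ κ hsq ((res X').obj ((pullB h').obj B)) := by
  apply Sheaf.hom_ext
  ext V b
  simp only [Functor.comp_obj, κ, r, rp, rbc, Functor.map_comp]
  dsimp [BigEt.BaseChange.liftIso, EtDesc.pushCompSh, EtBC.pushCongrSh, Functor.FullyFaithful.preimageIso,
    Functor.FullyFaithful.whiskeringRight, fullyFaithfulSheafToPresheaf,
    Functor.sheafPushforwardContinuousComp', Functor.sheafPushforwardContinuousComp,
    Functor.sheafPushforwardContinuousIso, Functor.sheafPushforwardContinuousNatTrans,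
    Adjunction.sheafPushforwardContinuous, GrothendieckTopology.overMapPullback]
  simp only [← ConcreteCategory.comp_apply, Category.assoc]
  dsimp [res, pushB, pullB, Functor.sheafPushforwardContinuous, Functor.whiskeringLeft,
    GrothendieckTopology.overMapPullback]
  refine map_eq B.obj _ _ _ _ _ _ _ _ _ ?_ b
  apply Quiver.Hom.unop_inj
  apply Over.OverMorphism.ext
  dsimp [BigEt.BaseChange.overIso, MorphismProperty.Over.pullbackComp, MorphismProperty.Over.pullbackCongr,
    MorphismProperty.Over.pullbackCompForgetIso]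
  apply pullback.hom_ext
  · simp [BigEt.BaseChange.objIso]
    exact gen_fst hsq (unop V).hom _ _ _ _
  · simp [BigEt.BaseChange.objIso]
    exact gen_snd hsq (unop V).hom _ _ _ _

/-- The comparison map. -/
def β (f : T ⟶ S) : EtDesc.pushSh f ⋙ pull S ⟶ pull T ⋙ pushB f where
  app G := ((adj S).homEquiv _ _).symm
    ((EtDesc.pushSh f).map ((adj T).unit.app G) ≫ (rp f).hom.app ((pull T).obj G))
  naturality G G' φ := by
    dsimp only [Functor.comp_obj, Functor.comp_map]
    rw [← Adjunction.homEquiv_naturality_left_symm, ← Adjunction.homEquiv_naturality_right_symm]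
    congr 1
    rw [← Category.assoc, ← Functor.map_comp, Category.assoc]
    have h₁ := (adj T).unit.naturality φ
    simp only [Functor.id_map, Functor.comp_map] at h₁
    rw [h₁, Functor.map_comp, Category.assoc]
    congr 1
    exact (rp f).hom.naturality ((pull T).map φ)

theorem unit_β (G : EtDesc.Sh T) :
    (adj S).unit.app ((EtDesc.pushSh f).obj G) ≫ (res S).map ((β f).app G) =
      (EtDesc.pushSh f).map ((adj T).unit.app G) ≫ (rp f).hom.app ((pull T).obj G) :=
  ((adj S).homEquiv_unit _ _ _).symm.trans (Equiv.apply_symm_apply _ _)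

theorem θ_β (G : EtDesc.Sh T) :
    θ h ((EtDesc.pushSh f).obj G) ≫ (res U).map ((pullB h).map ((β f).app G)) ≫
        (rbc hsq).inv.app ((pull T).obj G) =
      EtBC.baseChange0Sh f h f' h' hsq.w G ≫ (EtDesc.pushSh f').map (θ h' G) := by
  apply ((EtDesc.adjSh h).homEquiv _ _).injective
  rw [Adjunction.homEquiv_unit, Adjunction.homEquiv_unit]
  simp only [Functor.map_comp]
  have hb : (EtDesc.adjSh h).unit.app _ ≫
      (EtDesc.pushSh h).map (EtBC.baseChange0Sh f h f' h' hsq.w G) =
      (EtDesc.pushSh f).map ((EtDesc.adjSh h').unit.app G) ≫ κ hsq _ :=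
    ((EtDesc.adjSh h).homEquiv_unit _ _ _).symm.trans (Equiv.apply_symm_apply _ _)
  have hk : κ hsq ((EtDesc.pullSh h').obj G) ≫
      (EtDesc.pushSh h).map ((EtDesc.pushSh f').map (θ h' G)) =
      (EtDesc.pushSh f).map ((EtDesc.pushSh h').map (θ h' G)) ≫ κ hsq _ := by
    dsimp only [κ]
    simp only [Category.assoc]
    erw [← (EtDesc.pushCompSh h f').inv.naturality (θ h' G)]
    erw [← (EtBC.pushCongrSh hsq.w).hom.naturality_assoc (θ h' G)]
    erw [← (EtDesc.pushCompSh f h').hom.naturality_assoc (θ h' G)]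
    rfl
  rw [reassoc_of% unit_θ h, reassoc_of% hb, hk,
    ← reassoc_of% r_naturality h ((β f).app G), reassoc_of% unit_β (f := f) G, key hsq,
    ← Functor.map_comp_assoc, ← Functor.map_comp_assoc, unit_θ h']

end Square

/-- An object of the big site as the top of a small site. -/
def topIso (W : Over S) : op ((Over.map W.hom).obj ((EtFppf.a W.left).obj (EtCoh.top W.left))) ≅ op W :=
  (Over.isoMk (Iso.refl _) : W ≅ _).op

theorem isIso_β (f : T ⟶ S) [IsProper f] (G : EtDesc.Sh T) : IsIso ((β f).app G) := by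
  have : ∀ W : (Over S)ᵒᵖ, IsIso (((β f).app G).hom.app W) := by
    rintro ⟨W⟩
    have hsq : IsPullback (pullback.fst f W.hom) (pullback.snd f W.hom) f W.hom :=
      IsPullback.of_hasPullback _ _
    have := isIso_θ W.hom ((EtDesc.pushSh f).obj G)
    have := isIso_θ (pullback.fst f W.hom) G
    have := PBC50.SetsBC.isIso_baseChange0Sh hsq G
    have h₁ : IsIso (θ W.hom ((EtDesc.pushSh f).obj G) ≫
        (res W.left).map ((pullB W.hom).map ((β f).app G)) ≫
          (rbc hsq).inv.app ((pull T).obj G)) := by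
      rw [θ_β hsq G]
      infer_instance
    have h₂ := IsIso.of_isIso_comp_left (θ W.hom ((EtDesc.pushSh f).obj G))
      ((res W.left).map ((pullB W.hom).map ((β f).app G)) ≫ (rbc hsq).inv.app ((pull T).obj G))
    have h₃ : IsIso ((res W.left).map ((pullB W.hom).map ((β f).app G))) :=
      IsIso.of_isIso_comp_right _ ((rbc hsq).inv.app ((pull T).obj G))
    have h₄ : IsIso ((sheafToPresheaf _ _).map
        ((res W.left).map ((pullB W.hom).map ((β f).app G)))) := inferInstance
    have h₅ : IsIso (((β f).app G).hom.app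
        (op ((Over.map W.hom).obj ((EtFppf.a W.left).obj (EtCoh.top W.left))))) :=
      @NatIso.hom_app_isIso _ _ _ _ _ _ (@asIso _ _ _ _ _ h₄) (op (EtCoh.top W.left))
    exact (NatTrans.isIso_app_iff_of_iso ((β f).app G).hom (topIso W)).1 h₅
  have : IsIso ((sheafToPresheaf _ _).map ((β f).app G)) := NatIso.isIso_of_isIso_app ((β f).app G).hom
  exact isIso_of_reflects_iso ((β f).app G) (sheafToPresheaf _ _)

/-- Direct images along proper morphisms commute with inverse images to the big étale site. -/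
theorem nonempty_iso (f : T ⟶ S) [IsProper f] :
    Nonempty (EtDesc.pushSh f ⋙ pull S ≅ pull T ⋙ pushB f) :=
  have := isIso_β f
  have : IsIso (β f) := NatIso.isIso_of_isIso_app _
  ⟨asIso (β f)⟩

end Groth.Agent.Lib.BigEt50.SetsPush
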